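import Groth.Agent.Coherent.K54.PushH1
import Groth.Prelude.Def_CohBC2

/-!
# Base change for `π_* F` when `H^1` of the fibres vanishes

`π : X ⟶ Y` proper of finite presentation, `F` of finite presentation and flat over `Y`, `H^1(X_y, F_y) = 0` for
all `y`: the degree-0 base change map is an isomorphism for every cartesian square (no Noetherian hypothesis).
-/

set_option autoImplicit false
universe u

open AlgebraicGeometry CategoryTheory CategoryTheory.Limits Scheme.Modules TensorProduct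

namespace K340.BcH1

open Groth.Agent Groth.Agent.Ega3B K55 K55.Pack K55.KerAlg K54.PushSec K54.PushBC
open Groth.Agent.CohqA.PullbackUniv Groth.Agent.CohqA.PullbackSections Groth.Agent.CohqA.AffineBaseChange
  Groth.Agent.CohqA.PullbackQCoh

variable {X Y : Scheme.{u}} (π : X ⟶ Y) (F : X.Modules)

/-- The base change map is universal for every cartesian square. -/
theorem isUniv_pushSquare [IsProper π] [LocallyOfFinitePresentation π] (hF : Coh.IsQCoh F)
    (hfp : CohB1.IsFP F) (hfl : FlatMod.IsFlatOver π F)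
    (h1 : ∀ y : Y, Subsingleton (CohIII.fiberH π F y 1))
    {X' Z : Scheme.{u}} (f : X' ⟶ X) (ζ : X' ⟶ Z) (α : Z ⟶ Y) (h : IsPullback f ζ π α) :
    IsUniv α (pushSquare π α f ζ h.w (pbUnit f F)) := by
  have hM : ((pushforward π).obj F).IsQuasicoherent := Ega1.QcqsPush.isQCoh_pushforward π F hF
  have hF' : F.IsQuasicoherent := hF
  have i1 : QuasiCompact ζ := MorphismProperty.of_isPullback h inferInstance
  have i2 : QuasiSeparated ζ := MorphismProperty.of_isPullback h inferInstance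
  have hN : ((pushforward ζ).obj ((Scheme.Modules.pullback f).obj F)).IsQuasicoherent :=
    Ega1.QcqsPush.isQCoh_pushforward _ _
      (isQuasicoherent_of_isUniv f (pbUnit f F) (isUniv_pbUnit f F))
  refine isUniv_of_isBC_cover α _ fun z => ?_
  obtain ⟨V, hV, hyV, -⟩ := exists_isAffineOpen_mem_and_subset (x := α z) (U := ⊤) trivial
  obtain ⟨K, hK⟩ := exists_compData π F hfp hfl hV
  obtain ⟨t₀, ht⟩ := secData π F hV K hK
  have hs := K54.PushH1.subsingleton_HB π F hF hV K hK ⟨α z, hyV⟩ 1 (h1 (α z))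
  have hm : hV.primeIdealOf ⟨α z, hyV⟩ ∈ Module.freeLocus Γ(Y, V) (K.O 1) :=
    (of_subsingleton_ker (K.exact 1) (K.surj 1) _ hs).2.1
  obtain ⟨g, hyg, hg⟩ := exists_basic hV ⟨α z, hyV⟩ hm
  obtain ⟨_, ⟨V', hV', rfl⟩, hzV, hVU⟩ := Z.isBasis_affineOpens.exists_subset_of_mem_open
    (show z ∈ (α ⁻¹ᵁ Y.basicOpen g : Set Z) from hyg) (α ⁻¹ᵁ Y.basicOpen g).isOpen
  have hle : V' ≤ α ⁻¹ᵁ (Y.basicOpen g) := hVU
  have e : V' ≤ α ⁻¹ᵁ V := hle.trans (α.preimage_mono (Y.basicOpen_le g))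
  have hb := isBaseChange_res hV K g hg α e hle
  have ht' := ht f ζ α h V' hV' e
  refine ⟨V, V', hV, hV', e, hzV, ?_⟩
  exact isBC_of_res' (α.appLE V V' e).hom K _ t₀ ht' hb

/-- **Base change in degree 0 when `H^1` of all fibres vanishes.** -/
theorem isIso_bc0 [IsProper π] [LocallyOfFinitePresentation π] (hF : Coh.IsQCoh F)
    (hfp : CohB1.IsFP F) (hfl : FlatMod.IsFlatOver π F)
    (h1 : ∀ y : Y, Subsingleton (CohIII.fiberH π F y 1))
    {X' Z : Scheme.{u}} (f : X' ⟶ X) (ζ : X' ⟶ Z) (α : Z ⟶ Y) (h : IsPullback f ζ π α) :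
    IsIso (CohBC.bc0 π α ζ f h.w F) :=
  (isUniv_iff_isIso α _).1 (isUniv_pushSquare π F hF hfp hfl h1 f ζ α h)

end K340.BcH1
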