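import Groth.Agent.Curves.K340.BcH1
import Groth.Agent.Curves.K333.OmegaFam

/-!
# `f_*(Ω^{⊗n})` commutes with base change for `n ≥ 2` and genus `≥ 2`
-/

set_option autoImplicit false
universe u
open CategoryTheory CategoryTheory.Limits AlgebraicGeometry

namespace K340.OmegaPow

open Groth.Agent K333.Fam K333.FibreVA K333.OmegaFam Pi1.H536

/-- `H^1(X, Ω^{⊗n}) = 0` for `n ≥ 2`, `g ≥ 2`. -/
theorem subsingleton_h1_pow (k : Type u) [Field k] (X : Scheme.{u}) [X.Over (Spec (CommRingCat.of k))]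
    {g : ℕ} (hX : IsCurve (X ↘ (Spec (CommRingCat.of k))) g) (hg : 2 ≤ g) (n : ℕ) (hn : 2 ≤ n) :
    Subsingleton (Coh.HH X (CohB1.tensorPow (Omega.sheaf (X ↘ (Spec (CommRingCat.of k)))) n) 1) := by
  have i1 := hX.proper
  have i2 := hX.smooth
  have i3 := hX.conn
  have i4 := hX.rel
  have i5 : GeometricallyIntegral (X ↘ (Spec (CommRingCat.of k))) := geometricallyIntegral _
  obtain ⟨-, -, -, hdim, hgen, h0, -⟩ := hX.field k (𝟙 _) X (𝟙 X) (IsPullback.of_id_fst)
  have i6 : ConnectedSpace X := GeometricallyConnected.connectedSpace_of_subsingleton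
    (X ↘ (Spec (CommRingCat.of k)))
  have i7 : IsIntegral X := CurveFam.isIntegral_of_smooth k (X ↘ (Spec (CommRingCat.of k)))
  have hΩ := S1612.result k X ⟨i1, i2, i7, hdim⟩ h0
  have hinv : PicF.IsInvertible (Omega.sheaf (X ↘ (Spec (CommRingCat.of k)))) :=
    CurvesB.OmegaInv.isInvertible_omega _ hdim
  have hinv' := Fdesc.LocGen.isInvertible_tensorPow hinv n
  have hdeg := S1530.deg_tensorPow k hdim hinv n
  rw [hΩ.2, hgen] at hdeg
  have h1 : 2 * (g : ℤ) - 2 < (n : ℤ) * (2 * g - 2) := by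
    have hn' : (2 : ℤ) ≤ n := by exact_mod_cast hn
    have hg' : (2 : ℤ) ≤ g := by exact_mod_cast hg
    nlinarith
  refine subsingleton_h1 k X hdim h0 _ hinv' ?_
  rw [hgen, hdeg]
  exact h1

/-- `H^1` of the fibres vanishes. -/
theorem fibre_h1 {X S : Scheme.{u}} {f : X ⟶ S} {g : ℕ} (hf : IsCurve f g) (hg : 2 ≤ g) (n : ℕ) (hn : 2 ≤ n)
    (s : S) :
    Subsingleton (Coh.HH (f.fiber s)
      ((Scheme.Modules.pullback (f.fiberι s)).obj (CohB1.tensorPow (Omega.sheaf f) n)) 1) := by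
  let _ : (f.fiber s).Over (Spec (CommRingCat.of (S.residueField s))) :=
    ⟨f.fiberToSpecResidueField s⟩
  have H := isPullback_fiber f s
  have hc : IsCurve ((f.fiber s) ↘ (Spec (CommRingCat.of (S.residueField s)))) g := hf.baseChange H
  obtain ⟨e⟩ := nonempty_bc H hf n
  have h3 : Subsingleton (Coh.HH (f.fiber s)
    (CohB1.tensorPow (Omega.sheaf (f.fiberToSpecResidueField s)) n) 1) :=
      subsingleton_h1_pow (S.residueField s) (f.fiber s) hc hg n hn
  exact @Equiv.subsingleton _ _ (Fga.EulerIso.HHequiv (S.residueField s) e 1).toEquiv h3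

end K340.OmegaPow
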